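import Cfsg.Agent.Lib.Nonconn.Moved.Main
import Cfsg.Agent.Lib.JTwoType.Recognise
import Cfsg.Agent.Lib.HallJanko.Blocks
import Cfsg.Agent.Lib.J3.Field

/-!
The fused case gives the orders of the two Janko groups.

Blueprint: `blueprint/S0503.md`, section P.
-/

set_option autoImplicit false

namespace CfsgLib.Nonconn

variable {G : Type*} [Group G] [Finite G]

/-- The fused case. -/
theorem Ctx.janko (c : Ctx G) (hP : IsConj c.u c.z) : Cfsg.IsJ2 G ∨ Cfsg.IsJ3 G := by
  haveI := c.simple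
  obtain ⟨e⟩ := c.sylow_model hP
  rcases (CfsgJTwo.Emb.ofEquiv c.S e).recognise with h | h
  · left
    obtain ⟨i⟩ := h
    exact ⟨c.simple, (Nat.card_congr i.toEquiv).trans CfsgHJ.card_J2⟩
  · right
    obtain ⟨F, _, _, ω, hF, hω, ⟨i⟩⟩ := h
    exact ⟨c.simple, (Nat.card_congr i.toEquiv).trans (CfsgLib.J3.facts hF ω hω).2.2.1⟩

end CfsgLib.Nonconn
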