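import Cfsg.Agent.Lib.JTwoType.Model

/-!
The Sylow 2-subgroup of the Hall–Janko group as two copies of the quaternion group of order eight and a swap.

Blueprint: `blueprint/S0503.md`, section P.
-/

set_option autoImplicit false
set_option maxRecDepth 4000

namespace CfsgLib.Nonconn

open CfsgJTwo

/-- The quaternion group of order eight. -/
abbrev Q8 : Type := QuaternionGroup 2

/-- Two quaternion groups and a swap. -/
abbrev Twin : Type := Q8 × Q8 × Bool

/-- The action of the swap on the pairs. -/
def flip (b : Bool) (p : Q8 × Q8) : Q8 × Q8 := if b then (p.1 * p.2⁻¹, p.2⁻¹) else p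

/-- The law. -/
def twinMul (x y : Twin) : Twin :=
  let q := flip x.2.2 (y.1, y.2.1)
  let c := x.2.1 * q.1 * x.2.1⁻¹ * q.1⁻¹
  (x.1 * q.1 * c, x.2.1 * q.2 * c, Bool.xor x.2.2 y.2.2)

/-- The images of the quaternion generators. -/
def qi : W := ⟨.e, .e, .w, false⟩
/-- The images of the quaternion generators. -/
def qj : W := ⟨.w, .w2, .w, false⟩

/-- The powers of `qi`. -/
def qpow (n : ℕ) : W := match n with
  | 0 => 1
  | n + 1 => qpow n * qi

/-- The quaternion group in the model. -/
def qmap : Q8 → W
  | .a i => qpow i.val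
  | .xa i => qj * qpow i.val

/-- The diagonal automorphism of order three. -/
def rot (x : W) : W := ⟨.w * x.a, .w * x.b, .w2 * x.c, x.s⟩

/-- The identification. -/
def toW (x : Twin) : W := qmap x.1 * rot (qmap x.2.1) * (if x.2.2 then W.σ else 1)

theorem toW_mul : ∀ x y : Twin, toW (twinMul x y) = toW x * toW y := by decide +kernel

theorem toW_inj : ∀ x y : Twin, toW x = toW y → x = y := by decide +kernel

theorem toW_bij : Function.Bijective toW :=
  (Nat.bijective_iff_injective_and_card toW).2 ⟨fun x y h => toW_inj x y h, by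
    rw [W.card_W, Nat.card_eq_fintype_card]; decide +kernel⟩

end CfsgLib.Nonconn
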