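import Cfsg.Agent.Lib.FpfTwo.ClassTwo
import Cfsg.Agent.Lib.MetacyclicTwoAut
import Cfsg.Agent.Lib.UniqueSubgroup

/-!
A 2-group with a fixed-point-free automorphism of order three inverted by an involutory automorphism.

Blueprint: `blueprint/S0503.md`, section P.
-/

set_option autoImplicit false
set_option linter.unusedSectionVars false

namespace CfsgLib.Nonconn

open Subgroup
open scoped commutatorElement

/-- An additive-type bijection of a group of order at most sixteen of three-power period has period three. -/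
theorem period_three {V : Type*} [Group V] [Finite V] (h16 : Nat.card V ∣ 16) (σ : MulAut V) {k : ℕ}
    (hk : ∀ v, (⇑σ)^[3 ^ k] v = v) (v : V) : σ (σ (σ v)) = v := by
  classical
  by_contra hv
  have hper : ∀ w : V, Function.minimalPeriod (⇑σ) w = 1 ∨ Function.minimalPeriod (⇑σ) w = 3 ∨
      Function.minimalPeriod (⇑σ) w = 9 := by
    intro w
    have hle : Function.minimalPeriod (⇑σ) w ≤ 16 := by
      have hc := Nat.card_le_card_of_injective
        (fun i : Fin (Function.minimalPeriod (⇑σ) w) => (⇑σ)^[i.val] w) (fun i j h => Fin.ext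
          (Function.iterate_injOn_Iio_minimalPeriod (f := ⇑σ) (x := w) i.2 j.2 h))
      rw [Nat.card_fin] at hc
      exact hc.trans (Nat.le_of_dvd (by norm_num) h16)
    obtain ⟨j, -, hj⟩ := (Nat.dvd_prime_pow Nat.prime_three).1
      (Function.IsPeriodicPt.minimalPeriod_dvd (hk w : Function.IsPeriodicPt (⇑σ) (3 ^ k) w))
    have : j ≤ 2 := by
      by_contra h
      have := Nat.pow_le_pow_right (show 0 < 3 by norm_num) (show 3 ≤ j by omega)
      rw [hj] at hle
      omega
    interval_cases j <;> simp [hj]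
  have h3 : ∀ w : V, σ (σ (σ w)) = w ↔ Function.minimalPeriod (⇑σ) w ∣ 3 := fun w =>
    (Function.isPeriodicPt_iff_minimalPeriod_dvd (f := ⇑σ) (x := w) (n := 3))
  have h9 : ∀ w : V, σ (σ (σ w)) ≠ w → Function.minimalPeriod (⇑σ) w = 9 := by
    intro w hw
    rcases hper w with h | h | h
    · exact absurd ((h3 w).2 (by rw [h]; norm_num)) hw
    · exact absurd ((h3 w).2 (by rw [h])) hw
    · exact h
  let O : Finset V := (Finset.range 9).image fun i => (⇑σ)^[i] v
  have hO : O.card = 9 := by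
    rw [Finset.card_image_of_injOn, Finset.card_range]
    intro i hi j hj h
    have hi' : i < 9 := Finset.mem_range.1 hi
    have hj' : j < 9 := Finset.mem_range.1 hj
    rw [← h9 v hv] at hi' hj'
    exact Function.iterate_injOn_Iio_minimalPeriod (f := ⇑σ) (x := v) hi' hj' h
  haveI := Fintype.ofFinite V
  let F : Subgroup V :=
    { carrier := {w | σ (σ (σ w)) = w}
      one_mem' := by simp
      mul_mem' := fun {a b} ha hb => by
        show σ (σ (σ (a * b))) = a * b
        rw [map_mul, map_mul, map_mul, ha, hb]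
      inv_mem' := fun {a} ha => by
        show σ (σ (σ a⁻¹)) = a⁻¹
        rw [map_inv, map_inv, map_inv, ha] }
  have hout : ∀ w, w ∉ O → w ∈ F := by
    intro w hw
    by_contra hwF
    let O' : Finset V := (Finset.range 9).image fun i => (⇑σ)^[i] w
    have hO' : O'.card = 9 := by
      rw [Finset.card_image_of_injOn, Finset.card_range]
      intro i hi j hj h
      have hi' : i < 9 := Finset.mem_range.1 hi
      have hj' : j < 9 := Finset.mem_range.1 hj
      rw [← h9 w hwF] at hi' hj'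
      exact Function.iterate_injOn_Iio_minimalPeriod (f := ⇑σ) (x := w) hi' hj' h
    have hdis : Disjoint O O' := by
      rw [Finset.disjoint_left]
      rintro x hx hx'
      obtain ⟨i, -, rfl⟩ := Finset.mem_image.1 hx
      obtain ⟨j, hj, e⟩ := Finset.mem_image.1 hx'
      refine hw ?_
      have e' := congrArg ((⇑σ)^[9 - j]) e
      rw [← Function.iterate_add_apply, ← Function.iterate_add_apply,
        show 9 - j + j = 9 by have := Finset.mem_range.1 hj; omega] at e'
      have hp : (⇑σ)^[9] w = w := by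
        rw [← h9 w hwF]; exact Function.iterate_minimalPeriod
      rw [hp, ← Function.iterate_mod_minimalPeriod_eq, h9 v hv] at e'
      exact Finset.mem_image.2 ⟨_, Finset.mem_range.2 (Nat.mod_lt _ (by norm_num)), e'.symm⟩
    have := Finset.card_le_univ (O ∪ O')
    rw [Finset.card_union_of_disjoint hdis, hO, hO', ← Nat.card_eq_fintype_card] at this
    have := Nat.le_of_dvd (by norm_num) h16
    omega
  have hdisF : ∀ w ∈ O, w ∉ F := by
    intro w hw hwF
    obtain ⟨i, -, rfl⟩ := Finset.mem_image.1 hw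
    refine hv ((σ.injective.iterate i) ?_)
    have hwF' : (⇑σ)^[3] ((⇑σ)^[i] v) = (⇑σ)^[i] v := hwF
    rw [← Function.iterate_add_apply, add_comm, Function.iterate_add_apply] at hwF'
    exact hwF'
  have hFc : Nat.card F = Nat.card V - 9 := by
    rw [Nat.card_eq_fintype_card, Nat.card_eq_fintype_card, Fintype.card_subtype, ← hO,
      ← Finset.card_compl]
    congr 1
    ext w
    simp only [Finset.mem_filter, Finset.mem_univ, true_and, Finset.mem_compl]
    exact ⟨fun h hw => hdisF w hw h, hout w⟩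
  have h9le : 9 ≤ Nat.card V := by
    rw [Nat.card_eq_fintype_card, ← hO]; exact Finset.card_le_univ O
  obtain ⟨m, hm, hV⟩ := (Nat.dvd_prime_pow Nat.prime_two).1 (show Nat.card V ∣ 2 ^ 4 from h16)
  have hV16 : Nat.card V = 16 := by
    interval_cases m <;> omega
  have hd := Subgroup.card_subgroup_dvd_card F
  rw [hFc, hV16] at hd
  norm_num at hd

variable {T : Type*} [Group T] [Finite T]

/-- An automorphism of three-power period has period three if the Frattini quotient is small. -/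
theorem cube_trivial (hT : IsPGroup 2 T) (hd : (frattini T).index ∣ 16) (ρ : MulAut T) {k : ℕ}
    (hk : ∀ x, (ρ ^ 3 ^ k) x = x) : ∀ x, ρ (ρ (ρ x)) = x := by
  classical
  haveI := Fact.mk Nat.prime_two
  haveI := Fact.mk Nat.prime_three
  have hmap : (frattini T).map ρ.toMonoidHom = frattini T :=
    Subgroup.characteristic_iff_map_eq.1 inferInstance ρ
  let σ : MulAut (T ⧸ frattini T) := QuotientGroup.congr _ _ ρ hmap
  have hσ : ∀ x : T, σ (x : T ⧸ frattini T) = (ρ x : T ⧸ frattini T) := fun x => rfl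
  have hit : ∀ (n : ℕ) (x : T), (⇑σ)^[n] (x : T ⧸ frattini T) = ((ρ ^ n) x : T ⧸ frattini T) := by
    intro n
    induction n with
    | zero => intro x; rfl
    | succ n ih => intro x; rw [Function.iterate_succ_apply', ih, hσ, pow_succ', MulAut.mul_apply]
  have h3 := period_three (V := T ⧸ frattini T) (by rw [← Subgroup.index_eq_card]; exact hd) σ (k := k)
    (fun q => by
      obtain ⟨x, rfl⟩ := QuotientGroup.mk_surjective q
      rw [hit, hk])
  haveI : Finite (MulAut T) := Finite.of_injective (fun f => (f : T → T)) DFunLike.coe_injective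
  have hpow : ρ ^ 3 ^ k = 1 := MulEquiv.ext hk
  have h1 : ρ ^ 3 = 1 := by
    refine MetacyclicTwo.eq_one_of_trivial_mod_frattini hT (ρ ^ 3) ?_ fun x => ?_
    · have hdvd : orderOf (ρ ^ 3) ∣ 3 ^ k := orderOf_dvd_of_pow_eq_one (by
        rw [← pow_mul, mul_comm, pow_mul, hpow, one_pow])
      obtain ⟨j, -, hj⟩ := (Nat.dvd_prime_pow Nat.prime_three).1 hdvd
      rw [hj]
      exact Odd.pow (by decide)
    · have := h3 (x : T ⧸ frattini T)
      rw [hσ, hσ, hσ, eq_comm, QuotientGroup.eq] at this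
      have e : (ρ ^ 3) x = ρ (ρ (ρ x)) := rfl
      rw [e]
      exact (inferInstance : (frattini T).Normal).mem_comm this
  intro x
  exact (congrArg (fun f : MulAut T => f x) h1 : (ρ ^ 3) x = x)

/-- The setting. -/
structure Twist (T : Type*) [Group T] where
  ρ : MulAut T
  τ : MulAut T
  z : T
  two : IsPGroup 2 T
  cube : ∀ x, ρ (ρ (ρ x)) = x
  fpf : ∀ x, ρ x = x → x = 1
  invol : ∀ x, τ (τ x) = x
  inv : ∀ x, τ (ρ x) = ρ (ρ (τ x))
  zR : τ z = z
  z1 : z ≠ 1
  zz : z * z = 1
  uniq : ∀ x, τ x = x → x * x = 1 → x = 1 ∨ x = z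
  big : ∃ x y : T, x * y ≠ y * x

namespace Twist

variable (D : Twist T)
include D

theorem sum_one (x : T) : x * D.ρ x * D.ρ (D.ρ x) = 1 := FpfTwo.one_add_r_add_sq D.ρ D.cube D.fpf x

theorem comm_self (x : T) : Commute x (D.ρ x) := FpfTwo.commute_r D.ρ D.cube D.fpf x

theorem rho_sq (x : T) : D.ρ (D.ρ x) = (D.ρ x)⁻¹ * x⁻¹ := by
  have := D.sum_one x
  calc D.ρ (D.ρ x) = (D.ρ x)⁻¹ * x⁻¹ * (x * D.ρ x * D.ρ (D.ρ x)) := by group
    _ = _ := by rw [this, mul_one]

theorem central (x y g : T) : g * ⁅x, y⁆ = ⁅x, y⁆ * g :=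
  ((commutatorElement_eq_one_iff_commute.1 (FpfTwo.class_le_two D.two D.ρ D.cube D.fpf x y g)).symm).eq

theorem comm_mul_left (x w y : T) : ⁅x * w, y⁆ = ⁅x, y⁆ * ⁅w, y⁆ := by
  have : ⁅x * w, y⁆ = x * ⁅w, y⁆ * x⁻¹ * ⁅x, y⁆ := by simp only [commutatorElement_def]; group
  rw [this, D.central w y x, mul_inv_cancel_right, D.central x y]

theorem comm_mul_right (x y w : T) : ⁅x, y * w⁆ = ⁅x, y⁆ * ⁅x, w⁆ := by
  have : ⁅x, y * w⁆ = ⁅x, y⁆ * (y * ⁅x, w⁆ * y⁻¹) := by simp only [commutatorElement_def]; group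
  rw [this, D.central x w y, mul_inv_cancel_right]

theorem twist (x y : T) : ⁅D.ρ x, y⁆ = ⁅x, D.ρ y⁆ := by
  have h := commutatorElement_eq_one_iff_commute.2 (D.comm_self (x * y))
  rw [map_mul, D.comm_mul_left, D.comm_mul_right, D.comm_mul_right,
    commutatorElement_eq_one_iff_commute.2 (D.comm_self x), commutatorElement_eq_one_iff_commute.2 (D.comm_self y),
    one_mul, mul_one] at h
  rw [← commutatorElement_inv, ← eq_inv_of_mul_eq_one_left h]

/-- The fixed points of the involution. -/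
def R : Subgroup T where
  carrier := {x | D.τ x = x}
  one_mem' := map_one _
  mul_mem' {a b} (ha : D.τ a = a) (hb : D.τ b = b) := show D.τ (a * b) = a * b by rw [map_mul, ha, hb]
  inv_mem' {a} (ha : D.τ a = a) := show D.τ a⁻¹ = a⁻¹ by rw [map_inv, ha]

theorem mem_R {x : T} : x ∈ D.R ↔ D.τ x = x := Iff.rfl

theorem tau_rho {s : T} (hs : s ∈ D.R) : D.τ (D.ρ s) = s⁻¹ * D.ρ s⁻¹ := by
  rw [D.inv, hs, D.rho_sq, map_inv]
  exact ((D.comm_self s).inv_inv).symm.eq

/-- The law on products. -/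
theorem law {r s r' s' : T} (hz : ⁅s, r'⁆ = 1 ∨ ⁅s, r'⁆ = D.z) :
    r * D.ρ s * (r' * D.ρ s') = r * r' * ⁅s, r'⁆ * D.ρ (s * s' * ⁅s, r'⁆) := by
  set e := ⁅s, r'⁆ with he
  have hρe : D.ρ ⁅D.ρ s, r'⁆ = e := by
    rw [map_commutatorElement, ← D.twist, D.cube]
  have hee : e⁻¹ = e := by
    rcases hz with h | h <;> rw [h]
    exacts [inv_one, inv_eq_of_mul_eq_one_right D.zz]
  have hk : ⁅D.ρ s, r'⁆ = e * D.ρ e := by
    have h1 : ⁅D.ρ s, r'⁆ = D.ρ (D.ρ e) := by rw [← hρe, D.cube]
    rw [h1, D.rho_sq, hee, ← map_inv, hee]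
    exact (D.comm_self e).symm.eq
  have hce : ∀ g : T, g * D.ρ e = D.ρ e * g := fun g => by
    rw [he, map_commutatorElement]; exact D.central _ _ g
  calc r * D.ρ s * (r' * D.ρ s') = r * (⁅D.ρ s, r'⁆ * r') * (D.ρ s * D.ρ s') := by
        simp only [commutatorElement_def]; group
    _ = r * (r' * e * D.ρ e) * D.ρ (s * s') := by
        rw [hk, map_mul]
        congr 2
        rw [mul_assoc e, ← hce r', ← mul_assoc, ← D.central s r' r']
    _ = r * r' * e * (D.ρ e * D.ρ (s * s')) := by group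
    _ = r * r' * e * D.ρ (s * s' * e) := by rw [map_mul D.ρ (s * s') e, hce]

theorem unique {r s r' s' : T} (hr : r ∈ D.R) (hs : s ∈ D.R) (hr' : r' ∈ D.R) (hs' : s' ∈ D.R)
    (h : r * D.ρ s = r' * D.ρ s') : r = r' ∧ s = s' := by
  have hq : D.ρ (s' * s⁻¹) = r'⁻¹ * r := by
    rw [map_mul, map_inv]
    calc D.ρ s' * (D.ρ s)⁻¹ = r'⁻¹ * (r' * D.ρ s') * (D.ρ s)⁻¹ := by group
      _ = r'⁻¹ * r := by rw [← h]; group
  have hqR : s' * s⁻¹ ∈ D.R := mul_mem hs' (inv_mem hs)
  have hf : D.τ (D.ρ (s' * s⁻¹)) = D.ρ (s' * s⁻¹) := by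
    rw [hq]; exact mul_mem (inv_mem hr') hr
  rw [D.inv, hqR] at hf
  have h1 : s' * s⁻¹ = 1 := D.fpf _ (D.ρ.injective hf)
  have hss : s = s' := (mul_inv_eq_one.1 h1).symm
  subst hss
  exact ⟨mul_right_cancel h, rfl⟩

theorem card_le : Nat.card T ≤ Nat.card D.R * Nat.card D.R := by
  let I := {y : T // D.τ y = y⁻¹}
  let f : T ⧸ D.R → I := Quotient.lift (fun x => ⟨x * (D.τ x)⁻¹, by
      rw [map_mul, map_inv, D.invol, mul_inv_rev, inv_inv]⟩) (fun a b hab => by
    have h1 : a⁻¹ * b ∈ D.R := QuotientGroup.leftRel_apply.1 hab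
    have h2 : D.τ (a⁻¹ * b) = a⁻¹ * b := h1
    apply Subtype.ext
    show a * (D.τ a)⁻¹ = b * (D.τ b)⁻¹
    rw [map_mul, map_inv] at h2
    calc a * (D.τ a)⁻¹ = a * ((D.τ a)⁻¹ * D.τ b) * (D.τ b)⁻¹ := by group
      _ = b * (D.τ b)⁻¹ := by rw [h2]; group)
  have hf : Function.Injective f := by
    intro p q h
    obtain ⟨a, rfl⟩ := QuotientGroup.mk_surjective p
    obtain ⟨b, rfl⟩ := QuotientGroup.mk_surjective q
    have h' : a * (D.τ a)⁻¹ = b * (D.τ b)⁻¹ := congrArg Subtype.val h
    refine QuotientGroup.eq.2 ?_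
    show D.τ (a⁻¹ * b) = a⁻¹ * b
    rw [map_mul, map_inv]
    calc (D.τ a)⁻¹ * D.τ b = a⁻¹ * (a * (D.τ a)⁻¹) * D.τ b := by group
      _ = a⁻¹ * b := by rw [h']; group
  let g : I → D.R := fun y => ⟨D.ρ y.1 * (D.ρ (D.ρ y.1))⁻¹, by
    show D.τ _ = _
    rw [map_mul, map_inv, D.inv, D.inv, D.inv, y.2, D.cube, map_inv, map_inv, inv_inv]
    exact ((D.comm_self (D.ρ y.1)).symm.inv_left).eq⟩
  have hg : Function.Injective g := by
    intro y w h
    have h' : D.ρ y.1 * (D.ρ (D.ρ y.1))⁻¹ = D.ρ w.1 * (D.ρ (D.ρ w.1))⁻¹ := congrArg Subtype.val h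
    simp only [← map_inv, ← map_mul] at h'
    have h2 := D.ρ.injective h'
    simp only [map_inv] at h2
    apply Subtype.ext
    have h3 : D.ρ (w.1⁻¹ * y.1) = w.1⁻¹ * y.1 := by
      rw [map_mul, map_inv]
      calc (D.ρ w.1)⁻¹ * D.ρ y.1 = w.1⁻¹ * (w.1 * (D.ρ w.1)⁻¹) * D.ρ y.1 := by group
        _ = w.1⁻¹ * y.1 := by rw [← h2]; group
    exact (inv_mul_eq_one.1 (D.fpf _ h3)).symm
  have h1 := Nat.card_le_card_of_injective _ (hg.comp hf)
  rw [D.R.card_eq_card_quotient_mul_card_subgroup]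
  exact Nat.mul_le_mul_right _ h1

/-- Every element is a product, in one way. -/
theorem bijective : Function.Bijective fun p : D.R × D.R => (p.1 : T) * D.ρ (p.2 : T) := by
  have hinj : Function.Injective fun p : D.R × D.R => (p.1 : T) * D.ρ (p.2 : T) := fun p q h => by
    obtain ⟨h1, h2⟩ := D.unique p.1.2 p.2.2 q.1.2 q.2.2 h
    exact Prod.ext (Subtype.ext h1) (Subtype.ext h2)
  exact Function.Injective.bijective_of_nat_card_le hinj (by rw [Nat.card_prod]; exact D.card_le)

/-- The fixed points are quaternion of order eight. -/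
theorem R_equiv : Nonempty (↥D.R ≃* QuaternionGroup 2) := by
  haveI := Fact.mk Nat.prime_two
  let zR : D.R := ⟨D.z, D.zR⟩
  have ho : orderOf zR = 2 := orderOf_eq_prime (Subtype.ext (by simp [pow_two, D.zz, zR]))
    (fun h => D.z1 (congrArg Subtype.val h))
  rcases UniqueSubgroup.cyclic_or_quaternion (D.two.to_subgroup D.R) ho (fun x hx => by
    rcases D.uniq x x.2 (by rw [← pow_two]; exact congrArg Subtype.val hx) with h | h
    · rw [show x = 1 from Subtype.ext h]; exact one_mem _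
    · rw [show x = zR from Subtype.ext h]; exact mem_zpowers _) with hc | ⟨-, n, hn, ⟨e⟩⟩
  · exfalso
    obtain ⟨g, hg⟩ := hc.exists_generator
    have hcR : ∀ a ∈ D.R, ∀ b ∈ D.R, a * b = b * a := fun a ha b hb => by
      obtain ⟨i, hi⟩ := hg ⟨a, ha⟩
      obtain ⟨j, hj⟩ := hg ⟨b, hb⟩
      have h := ((Commute.zpow_zpow_self g i j)).eq
      simp only at hi hj
      rw [hi, hj] at h
      exact congrArg Subtype.val h
    obtain ⟨x, y, hxy⟩ := D.big
    obtain ⟨⟨r, s⟩, rfl⟩ := D.bijective.2 x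
    obtain ⟨⟨r', s'⟩, rfl⟩ := D.bijective.2 y
    refine hxy ?_
    have h1 : ⁅(s : T), (r' : T)⁆ = 1 := commutatorElement_eq_one_iff_commute.2 (hcR _ s.2 _ r'.2)
    have h2 : ⁅(s' : T), (r : T)⁆ = 1 := commutatorElement_eq_one_iff_commute.2 (hcR _ s'.2 _ r.2)
    simp only
    rw [D.law (Or.inl h1), D.law (Or.inl h2), h1, h2, hcR _ r.2 _ r'.2, hcR _ s.2 _ s'.2]
  · have hn1 : n = 1 := by
      by_contra hne
      let X : QuaternionGroup (2 ^ n) := QuaternionGroup.xa 0
      let Y : QuaternionGroup (2 ^ n) := QuaternionGroup.a 1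
      have hY : ⁅Y, X⁆ = QuaternionGroup.a 2 := by
        have e1 : Y * X = QuaternionGroup.a 2 * (X * Y) := by
          simp only [X, Y, QuaternionGroup.a_mul_xa, QuaternionGroup.xa_mul_a, QuaternionGroup.xa.injEq]
          ring
        rw [commutatorElement_def, e1]; group
      have h := FpfTwo.class_le_two D.two D.ρ D.cube D.fpf (e.symm Y : T) (e.symm X : T) (e.symm X : T)
      have h' : ⁅⁅e.symm Y, e.symm X⁆, e.symm X⁆ = (1 : D.R) := Subtype.ext h
      rw [← map_commutatorElement, ← map_commutatorElement, hY, ← map_one e.symm] at h'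
      have h'' := commutatorElement_eq_one_iff_commute.1 (e.symm.injective h')
      have e2 : (QuaternionGroup.a 2 : QuaternionGroup (2 ^ n)) * QuaternionGroup.xa 0 =
          QuaternionGroup.xa 0 * QuaternionGroup.a 2 := h''.eq
      simp only [QuaternionGroup.a_mul_xa, QuaternionGroup.xa_mul_a, QuaternionGroup.xa.injEq] at e2
      have h4 : ((4 : ℕ) : ZMod (2 * 2 ^ n)) = 0 := by
        push_cast
        linear_combination -e2
      rw [ZMod.natCast_eq_zero_iff] at h4
      have h8 : 2 * 2 ^ n ≤ 4 := Nat.le_of_dvd (by norm_num) h4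
      have := Nat.pow_le_pow_right (show 0 < 2 by norm_num) (show 2 ≤ n by omega)
      omega
    subst hn1
    exact ⟨e.trans (MulEquiv.refl _)⟩

end Twist

end CfsgLib.Nonconn
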