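import Cfsg.Agent.Lib.Nonconn.Basic
import Cfsg.Agent.Lib.Nonconn.Moved.Model
import Cfsg.Agent.Lib.Nonconn.Moved.Twist
import Cfsg.Agent.Lib.MacWilliams.Main

/-!
If the four-group is fused to `z`, the Sylow 2-subgroup is that of the Hall–Janko group.

Blueprint: `blueprint/S0503.md`, section P.
-/

set_option autoImplicit false
set_option linter.unusedSectionVars false

namespace CfsgLib.Nonconn

open Subgroup
open scoped commutatorElement

variable {G : Type*} [Group G] [Finite G]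

namespace Ctx

variable (c : Ctx G)

/-- Fusion normalises `U` and `T`. -/
theorem exists_fuse (hP : IsConj c.u c.z) :
    ∃ g : G, g * c.u * g⁻¹ = c.z ∧ g ∈ normalizer (c.T : Set G) ∧ ∀ e ∈ c.U, g * e * g⁻¹ ∈ c.U := by
  haveI := Fact.mk Nat.prime_two
  obtain ⟨g, hgu, hg⟩ := c.extremal c.uS hP
  have hgT : ∀ x ∈ c.T, g * x * g⁻¹ ∈ (c.S : Subgroup G) := fun x hx =>
    hg x (c.mem_T.1 hx).1 (c.mem_T.1 hx).2
  rcases c.moved_four hgT with h | h
  · refine ⟨g, hgu, ?_, h⟩
    have hUeq : c.U.map (MulAut.conj g).toMonoidHom = c.U := eq_of_le_of_card_ge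
      (by rintro _ ⟨e, he, rfl⟩; exact h e he) (card_map_of_injective (MulEquiv.injective _)).ge
    have hmap : c.T.map (MulAut.conj g).toMonoidHom ≤ c.T := by
      rintro _ ⟨x, hx, rfl⟩
      refine c.mem_T.2 ⟨hgT x hx, ?_⟩
      obtain ⟨e, he, heu⟩ : c.u ∈ c.U.map (MulAut.conj g).toMonoidHom := hUeq.symm ▸ c.uU
      rw [← heu, ← map_mul, ← map_mul, c.T_U hx he]
    have heq := eq_of_le_of_card_ge hmap (card_map_of_injective (MulEquiv.injective _)).ge
    refine mem_normalizer_iff.2 fun x => ⟨fun hx => hmap ⟨x, hx, rfl⟩, fun hx => ?_⟩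
    rw [← heq] at hx
    obtain ⟨y, hy, e⟩ := hx
    rwa [← (MulAut.conj g).injective e]
  · exfalso
    obtain ⟨i, hi, -, hii⟩ := c.exists_root
    have hz : g * c.z * g⁻¹ = c.z := by
      refine (h _ c.zU ?_).resolve_left fun h' => c.z1 (conj_eq_one_iff.1 h')
      rw [← hii, show g * (i * i) * g⁻¹ = (g * i * g⁻¹) * (g * i * g⁻¹) by group]
      exact c.sq_mem_T (hgT i hi)
    exact c.uz (mul_left_cancel (mul_right_cancel (hgu.trans hz.symm)))

/-- An element of three-power period inverted by `t` rotating `U` and normalising `T`. -/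
theorem exists_rotation (hP : IsConj c.u c.z) :
    ∃ a : G, a ∈ normalizer (c.T : Set G) ∧ c.t * a * c.t⁻¹ = a⁻¹ ∧ (∃ k, a ^ 3 ^ k = 1) ∧
      a * c.z * a⁻¹ ≠ c.z := by
  haveI := Fact.mk Nat.prime_three
  obtain ⟨g, hgu, hgT, hgU⟩ := c.exists_fuse hP
  have hti : c.t⁻¹ = c.t := inv_of_sq c.tt
  have htT : c.t ∈ normalizer (c.T : Set G) := mem_normalizer_iff.2 fun x => ⟨fun hx => c.T_normal c.tS hx,
    fun hx => by
      have := c.T_normal (inv_mem c.tS) hx
      simpa [mul_assoc] using this⟩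
  let d := g⁻¹ * c.t * g * c.t
  have hdT : d ∈ normalizer (c.T : Set G) := mul_mem (mul_mem (mul_mem (inv_mem hgT) htT) hgT) htT
  have hdinv : c.t * d * c.t⁻¹ = d⁻¹ := by
    simp only [d, hti, mul_inv_rev, inv_inv]
    rw [show c.t * (g⁻¹ * c.t * g * c.t) * c.t = c.t * g⁻¹ * c.t * g * (c.t * c.t) by group, c.tt, mul_one]
    group
  -- the action of `d`
  let f : MulAut G := MulAut.conj g
  let τ : MulAut G := MulAut.conj c.t
  have hd : ∀ x, MulAut.conj d x = f⁻¹ (τ (f (τ x))) := fun x => by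
    simp only [d, f, τ, map_mul, map_inv, MulAut.mul_apply]
  have htu : τ c.u = c.u * c.z := c.tu
  have htz : τ c.z = c.z := by
    show c.t * c.z * c.t⁻¹ = c.z
    rw [c.zc _ c.tS, mul_inv_cancel_right]
  have htuz : τ (c.u * c.z) = c.u := by rw [map_mul, htu, htz, mul_assoc, c.zz, mul_one]
  have hfu : f c.u = c.z := hgu
  have hfuz : f (c.u * c.z) = c.z * f c.z := by rw [map_mul, hfu]
  have hfinv : ∀ {x y}, f x = y → f⁻¹ y = x := fun {x y} h => by rw [← h]; simp
  have hfz : f c.z = c.u ∨ f c.z = c.u * c.z := by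
    rcases hgU _ c.zU with h | h | h | h
    · exact absurd (conj_eq_one_iff.1 h) c.z1
    · exact absurd (f.injective (hfu.trans h.symm)) c.uz
    · exact Or.inl h
    · exact Or.inr h
  have hdu : MulAut.conj d c.u = c.z ∧ MulAut.conj d c.z = c.u * c.z := by
    rcases hfz with h | h
    · have h2 : f (c.u * c.z) = c.u * c.z := by rw [hfuz, h, c.zu_comm]
      refine ⟨?_, ?_⟩
      · rw [hd, htu, h2, htuz, hfinv h]
      · rw [hd, htz, h, htu, hfinv h2]
    · have h2 : f (c.u * c.z) = c.u := by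
        rw [hfuz, h, c.zu_comm, ← mul_assoc, c.zz, one_mul]
      refine ⟨?_, ?_⟩
      · rw [hd, htu, h2, htu, hfinv h]
      · rw [hd, htz, h, htuz, hfinv h2]
  -- three-part
  obtain ⟨k, m, hm, hord⟩ := Nat.exists_eq_pow_mul_and_not_dvd (orderOf_pos d).ne' 3 (by norm_num)
  let K : Subgroup G := centralizer ({c.z} : Set G)
  have hd3 : d ^ 3 ∈ K := by
    refine mem_centralizer_singleton_iff.2 (mul_inv_eq_iff_eq_mul.1 ?_)
    show MulAut.conj (d ^ 3) c.z = c.z
    rw [map_pow, pow_succ, pow_two, MulAut.mul_apply, MulAut.mul_apply, hdu.2, map_mul (MulAut.conj d),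
      hdu.1, hdu.2, map_mul (MulAut.conj d) c.z, map_mul (MulAut.conj d) c.u, hdu.1, hdu.2,
      show c.u * c.z * (c.z * (c.u * c.z)) = c.u * (c.z * c.z) * c.u * c.z by group, c.zz, mul_one, c.uu, one_mul]
  refine ⟨d ^ m, pow_mem hdT m, ?_, ⟨k, ?_⟩, fun h => ?_⟩
  · rw [← conj_pow, hdinv, inv_pow]
  · rw [← pow_mul, mul_comm, ← hord, pow_orderOf_eq_one]
  · have hmK : d ^ m ∈ K := mem_centralizer_singleton_iff.2 (mul_inv_eq_iff_eq_mul.1 h)
    have hd' : d ∈ K := by
      have hco : Nat.Coprime 3 m := (Nat.Prime.coprime_iff_not_dvd Nat.prime_three).2 hm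
      have hab := Nat.gcd_eq_gcd_ab 3 m
      rw [hco] at hab
      have h1 : d = (d ^ 3) ^ (Nat.gcdA 3 m) * (d ^ m) ^ (Nat.gcdB 3 m) := by
        rw [← zpow_natCast, ← zpow_natCast d m, ← zpow_mul, ← zpow_mul, ← zpow_add, ← hab]
        simp
      rw [h1]
      exact mul_mem (zpow_mem hd3 _) (zpow_mem hmK _)
    have := mul_inv_eq_iff_eq_mul.2 (mem_centralizer_singleton_iff.1 hd')
    rw [← MulAut.conj_apply, hdu.2] at this
    exact c.uz_ne_z this

/-- The Sylow subgroup is the model. -/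
theorem sylow_model (hP : IsConj c.u c.z) : Nonempty (↥(c.S : Subgroup G) ≃* CfsgJTwo.W) := by
  classical
  haveI := Fact.mk Nat.prime_two
  obtain ⟨a, haT, hta, ⟨k, hk⟩, haz⟩ := c.exists_rotation hP
  have hti : c.t⁻¹ = c.t := inv_of_sq c.tt
  have hTS : IsPGroup 2 ↥c.T := c.S.2.to_le c.T_le
  let ρ : MulAut ↥c.T := {
    toFun := fun x => ⟨a * x * a⁻¹, (mem_normalizer_iff.1 haT _).1 x.2⟩
    invFun := fun x => ⟨a⁻¹ * x * a, by
      have := (mem_normalizer_iff.1 (inv_mem haT) _).1 x.2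
      simpa using this⟩
    left_inv := fun x => Subtype.ext (by simp [mul_assoc])
    right_inv := fun x => Subtype.ext (by simp [mul_assoc])
    map_mul' := fun x y => Subtype.ext (by simp [mul_assoc]) }
  let τ : MulAut ↥c.T := {
    toFun := fun x => ⟨c.t * x * c.t⁻¹, c.T_normal c.tS x.2⟩
    invFun := fun x => ⟨c.t⁻¹ * x * c.t, by
      have := c.T_normal (inv_mem c.tS) x.2
      simpa using this⟩
    left_inv := fun x => Subtype.ext (by simp [mul_assoc])
    right_inv := fun x => Subtype.ext (by simp [mul_assoc])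
    map_mul' := fun x y => Subtype.ext (by simp [mul_assoc]) }
  have hτ2 : ∀ x, τ (τ x) = x := fun x => Subtype.ext (by
    show c.t * (c.t * (x : G) * c.t⁻¹) * c.t⁻¹ = x
    rw [hti, ← mul_assoc, ← mul_assoc, c.tt, one_mul, mul_assoc, c.tt, mul_one])
  have huniq : ∀ x : ↥c.T, τ x = x → x * x = 1 → x = 1 ∨ x = ⟨c.z, c.zT⟩ := by
    intro x hx hxx
    rcases c.iso x (c.T_le x.2) (c.mem_T.1 x.2).2 (congrArg Subtype.val hxx)
      (mul_inv_eq_iff_eq_mul.1 (congrArg Subtype.val hx)).symm with h | h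
    exacts [Or.inl (Subtype.ext h), Or.inr (Subtype.ext h)]
  have hfpf : ∀ x, ρ x = x → x = 1 := by
    intro x hx
    by_contra hx1
    let K : Subgroup G := c.T ⊓ centralizer ({a} : Set G)
    have hxK : (x : G) ∈ K := ⟨x.2, mem_centralizer_singleton_iff.2
      (mul_inv_eq_iff_eq_mul.1 (congrArg Subtype.val hx)).symm⟩
    have hKt : ∀ y ∈ K, c.t * y * c.t⁻¹ ∈ K := by
      rintro y ⟨hy, hya⟩
      refine ⟨c.T_normal c.tS hy, mem_centralizer_singleton_iff.2 ?_⟩
      have ha' : a = c.t * a⁻¹ * c.t⁻¹ := by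
        rw [← hta, hti]
        rw [show c.t * (c.t * a * c.t) * c.t = (c.t * c.t) * a * (c.t * c.t) by group, c.tt, one_mul, mul_one]
      have e : Commute y a⁻¹ := (show Commute y a from mem_centralizer_singleton_iff.1 hya).inv_right
      rw [ha']
      rw [show c.t * y * c.t⁻¹ * (c.t * a⁻¹ * c.t⁻¹) = c.t * (y * a⁻¹) * c.t⁻¹ by group, e.eq]
      group
    obtain ⟨j, hj⟩ := IsPGroup.iff_card.1 (c.S.2.to_le (inf_le_left.trans c.T_le) : IsPGroup 2 ↥K)
    have hjpos : j ≠ 0 := by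
      rintro rfl
      rw [pow_zero, card_eq_one] at hj
      exact hx1 (Subtype.ext (mem_bot.1 (hj ▸ hxK)))
    let f : K → K := fun y => ⟨c.t * y * c.t⁻¹, hKt y y.2⟩
    have hpar := FpfTwo.fixed_parity f fun y => Subtype.ext (by
      show c.t * (c.t * (y : G) * c.t⁻¹) * c.t⁻¹ = y
      rw [hti, ← mul_assoc, ← mul_assoc, c.tt, one_mul, mul_assoc, c.tt, mul_one])
    rw [hj] at hpar
    obtain ⟨j, rfl⟩ := Nat.exists_eq_succ_of_ne_zero hjpos
    rw [pow_succ, Nat.mul_mod_left] at hpar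
    obtain ⟨⟨y, hy⟩, hne⟩ : ∃ y : {y : K // f y = y}, y.1 ≠ 1 := by
      by_contra h
      push Not at h
      have h1 : Nat.card {y : K // f y = y} = 1 := Nat.card_eq_one_iff_unique.2
        ⟨⟨fun p q => Subtype.ext ((h p).trans (h q).symm)⟩, ⟨⟨1, Subtype.ext (by
          show c.t * (1 : G) * c.t⁻¹ = 1; group)⟩⟩⟩
      rw [h1] at hpar
      omega
    -- an involution among the powers
    obtain ⟨n, hn⟩ := IsPGroup.iff_orderOf.1 (c.S.2.to_le (inf_le_left.trans c.T_le) : IsPGroup 2 ↥K) y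
    obtain ⟨n, rfl⟩ := Nat.exists_eq_succ_of_ne_zero (fun h0 : n = 0 => hne (orderOf_eq_one_iff.1 (by
      rw [hn, h0, pow_zero])))
    have hp : y ^ 2 ^ n ≠ 1 := fun h => by
      have := orderOf_dvd_of_pow_eq_one h
      rw [hn, Nat.pow_dvd_pow_iff_le_right (by norm_num)] at this
      omega
    have hq : (y ^ 2 ^ n) * (y ^ 2 ^ n) = 1 := by
      rw [← pow_two, ← pow_mul, ← pow_succ, ← hn, pow_orderOf_eq_one]
    set q := y ^ 2 ^ n
    have hyt : Commute (y : G) c.t := ((mul_inv_eq_iff_eq_mul.1 (congrArg Subtype.val hy)).symm :)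
    rcases c.iso q (c.T_le q.2.1) (c.mem_T.1 q.2.1).2 (congrArg Subtype.val hq)
      (by simpa [q] using (hyt.pow_left (2 ^ n)).eq) with h | h
    · exact hp (Subtype.ext h)
    · refine haz (mul_inv_eq_iff_eq_mul.2 ?_)
      rw [← h]
      exact (mem_centralizer_singleton_iff.1 q.2.2).symm
  have hρpow : ∀ (n : ℕ) (x : ↥c.T), (((ρ ^ n) x : ↥c.T) : G) = a ^ n * x * (a ^ n)⁻¹ := by
    intro n
    induction n with
    | zero => intro x; simp
    | succ n ih =>
      intro x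
      rw [pow_succ' ρ, MulAut.mul_apply]
      show a * (((ρ ^ n) x : ↥c.T) : G) * a⁻¹ = _
      rw [ih, pow_succ' a]; group
  have hidx : (frattini ↥c.T).index ∣ 16 := by
    have hr := MacWilliams.sectional_rank_le_four c.S.2 c.noEightS
    let e : ↥(c.T.subgroupOf (c.S : Subgroup G)) ≃* ↥c.T := subgroupOfEquivOfLe c.T_le
    haveI : ((frattini ↥c.T).comap e.toMonoidHom).Normal := inferInstance
    let q := QuotientGroup.congr ((frattini ↥c.T).comap e.toMonoidHom) (frattini ↥c.T) e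
      (map_comap_eq_self_of_surjective e.surjective _)
    have hexp : ∀ x : ↥(c.T.subgroupOf (c.S : Subgroup G)) ⧸ (frattini ↥c.T).comap e.toMonoidHom, x ^ 2 = 1 := by
      intro x
      apply q.injective
      rw [map_pow, map_one]
      obtain ⟨y, hy⟩ := QuotientGroup.mk_surjective (q x)
      rw [← hy]
      exact (QuotientGroup.eq_one_iff _).2 (CfsgLib.pow_mem_frattini_pGroup hTS y)
    have h := hr (c.T.subgroupOf (c.S : Subgroup G)) ((frattini ↥c.T).comap e.toMonoidHom) ⊤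
      ⟨⟨fun x y => Subtype.ext (MacWilliams.exp_two_comm hexp x.1 y.1)⟩⟩ (fun x _ => hexp x)
    rw [card_top, Nat.card_congr q.toEquiv, ← index_eq_card] at h
    obtain ⟨j, hj⟩ := IsPGroup.iff_card.1 (hTS.to_quotient (frattini ↥c.T))
    rw [← index_eq_card] at hj
    rw [hj] at h ⊢
    exact pow_dvd_pow 2 (n := 4) ((Nat.pow_le_pow_iff_right one_lt_two).1 h)
  have hbig : ∃ x y : ↥c.T, x * y ≠ y * x := by
    by_contra hc
    push Not at hc
    obtain ⟨w, hwS, hwu, hww, hw1, hwz, hwu', hwuz⟩ := c.big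
    rcases c.central_inv (c.mem_T.2 ⟨hwS, hwu⟩) hww (fun y hy =>
      congrArg Subtype.val (hc ⟨y, hy⟩ ⟨w, c.mem_T.2 ⟨hwS, hwu⟩⟩)) with h | h | h | h
    exacts [hw1 h, hwz h, hwu' h, hwuz h]
  let D : Twist ↥c.T :=
    { ρ := ρ, τ := τ, z := ⟨c.z, c.zT⟩, two := hTS
      cube := cube_trivial hTS hidx ρ (k := k) (fun x => Subtype.ext (by rw [hρpow, hk]; simp))
      fpf := hfpf
      invol := hτ2
      inv := fun x => Subtype.ext (by
        have h2 : ∀ y, ρ (ρ (ρ y)) = y :=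
          cube_trivial hTS hidx ρ (k := k) (fun y => Subtype.ext (by rw [hρpow, hk]; simp))
        have h3 : ρ (ρ (τ x)) = ρ⁻¹ (τ x) := by
          apply ρ.injective
          rw [h2, MulAut.apply_inv_self]
        rw [h3]
        show c.t * (a * (x : G) * a⁻¹) * c.t⁻¹ = a⁻¹ * (c.t * x * c.t⁻¹) * a
        rw [show c.t * (a * (x : G) * a⁻¹) * c.t⁻¹ =
          (c.t * a * c.t⁻¹) * (c.t * x * c.t⁻¹) * (c.t * a * c.t⁻¹)⁻¹ by group, hta, inv_inv])
      zR := Subtype.ext (show c.t * c.z * c.t⁻¹ = c.z by rw [c.zc _ c.tS, mul_inv_cancel_right])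
      z1 := fun h => c.z1 (congrArg Subtype.val h)
      zz := Subtype.ext c.zz
      uniq := huniq
      big := hbig }
  obtain ⟨eQ⟩ := D.R_equiv
  let ev : Q8 → ↥c.T := fun q => ((eQ.symm q : ↥D.R) : ↥c.T)
  have hev : ∀ p q, ev (p * q) = ev p * ev q := fun p q => by simp [ev]
  have hevinv : ∀ p, ev p⁻¹ = (ev p)⁻¹ := fun p => by simp [ev]
  have hevR : ∀ p, ev p ∈ D.R := fun p => (eQ.symm p).2
  have hcomm : ∀ p q, ev (p * q * p⁻¹ * q⁻¹) = 1 ∨ ev (p * q * p⁻¹ * q⁻¹) = D.z := fun p q =>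
    D.uniq _ (hevR _) (by
      rw [← hev]
      have : ∀ p q : Q8, p * q * p⁻¹ * q⁻¹ * (p * q * p⁻¹ * q⁻¹) = 1 := by decide +kernel
      rw [this]; simp [ev])
  let pair : Q8 × Q8 → ↥c.T := fun p => ev p.1 * D.ρ (ev p.2)
  have hpair : ∀ p q : Q8 × Q8, pair p * pair q = pair (p.1 * q.1 * (p.2 * q.1 * p.2⁻¹ * q.1⁻¹),
      p.2 * q.2 * (p.2 * q.1 * p.2⁻¹ * q.1⁻¹)) := by
    intro p q
    have he : ⁅ev p.2, ev q.1⁆ = ev (p.2 * q.1 * p.2⁻¹ * q.1⁻¹) := by
      simp only [hev, hevinv, commutatorElement_def]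
    have := D.law (r := ev p.1) (s := ev p.2) (r' := ev q.1) (s' := ev q.2) (he ▸ hcomm _ _)
    simp only [pair]
    rw [this, he]
    simp only [hev]
  have hflip : ∀ p : Q8 × Q8, τ (pair p) = pair (p.1 * p.2⁻¹, p.2⁻¹) := fun p => by
    show D.τ (ev p.1 * D.ρ (ev p.2)) = _
    rw [map_mul, D.tau_rho (hevR _), show D.τ (ev p.1) = ev p.1 from hevR p.1]
    simp only [pair, hev, hevinv, mul_assoc]
  let tp : Bool → G := fun b => if b then c.t else 1
  let φ : Twin → ↥(c.S : Subgroup G) := fun x => ⟨(pair (x.1, x.2.1) : G) * tp x.2.2, mul_mem (c.T_le (pair _).2) (by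
    rcases x.2.2 <;> simp [tp, c.tS])⟩
  have hφmul : ∀ x y, φ (twinMul x y) = φ x * φ y := by
    rintro ⟨r, s, b⟩ ⟨r', s', b'⟩
    apply Subtype.ext
    have hmove : tp b * (pair (r', s') : G) = (pair (flip b (r', s')) : G) * tp b := by
      cases b
      · simp [tp, flip]
      · have := congrArg Subtype.val (hflip (r', s'))
        simp only [tp, flip, if_true]
        rw [← this]
        show c.t * (pair (r', s') : G) = c.t * (pair (r', s') : G) * c.t⁻¹ * c.t
        rw [inv_mul_cancel_right]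
    have htp : tp b * tp b' = tp (Bool.xor b b') := by
      cases b <;> cases b' <;> simp [tp, c.tt]
    show _ = (pair (r, s) : G) * tp b * ((pair (r', s') : G) * tp b')
    rw [show (pair (r, s) : G) * tp b * ((pair (r', s') : G) * tp b') =
      (pair (r, s) : G) * (tp b * (pair (r', s') : G)) * tp b' by group, hmove,
      show (pair (r, s) : G) * ((pair (flip b (r', s')) : G) * tp b) * tp b' =
      ((pair (r, s) * pair (flip b (r', s')) : ↥c.T) : G) * (tp b * tp b') by push_cast; group, hpair, htp]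
    rfl
  have hpb : Function.Bijective pair := by
    let e2 : Q8 × Q8 → D.R × D.R := Prod.map eQ.symm eQ.symm
    exact D.bijective.comp (f := e2) ⟨Prod.map_injective.2 ⟨eQ.symm.injective, eQ.symm.injective⟩,
      Prod.map_surjective.2 ⟨eQ.symm.surjective, eQ.symm.surjective⟩⟩
  have hφ : Function.Bijective φ := by
    constructor
    · rintro ⟨r, s, b⟩ ⟨r', s', b'⟩ h
      have h' : (pair (r, s) : G) * tp b = (pair (r', s') : G) * tp b' := congrArg Subtype.val h
      have hbb : b = b' := by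
        by_contra hne
        have : tp b * (tp b')⁻¹ ∈ c.T := by
          rw [show tp b * (tp b')⁻¹ = (pair (r, s) : G)⁻¹ * ((pair (r, s) : G) * tp b) * (tp b')⁻¹ by group, h',
            show (pair (r, s) : G)⁻¹ * ((pair (r', s') : G) * tp b') * (tp b')⁻¹ =
              (pair (r, s) : G)⁻¹ * (pair (r', s') : G) by group]
          exact mul_mem (inv_mem (pair _).2) (pair _).2
        cases b <;> cases b' <;> simp_all [tp, c.tT]
      subst hbb
      have := hpb.1 (Subtype.ext (mul_right_cancel h') : pair (r, s) = pair (r', s'))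
      cases this
      rfl
    · rintro ⟨x, hx⟩
      by_cases h : x ∈ c.T
      · obtain ⟨⟨r, s⟩, e⟩ := hpb.2 ⟨x, h⟩
        exact ⟨(r, s, false), Subtype.ext (by simp [φ, tp, e])⟩
      · obtain ⟨⟨r, s⟩, e⟩ := hpb.2 ⟨x * c.t, c.mul_outer hx c.tS h c.tT⟩
        exact ⟨(r, s, true), Subtype.ext (by simp [φ, tp, e, mul_assoc, c.tt])⟩
  let e1 := Equiv.ofBijective φ hφ
  let e0 := Equiv.ofBijective toW toW_bij
  refine ⟨{ e1.symm.trans e0 with map_mul' := fun x y => ?_ }⟩
  obtain ⟨p, rfl⟩ := e1.surjective x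
  obtain ⟨q, rfl⟩ := e1.surjective y
  show e0 (e1.symm (φ p * φ q)) = e0 (e1.symm (e1 p)) * e0 (e1.symm (e1 q))
  rw [← hφmul, show φ (twinMul p q) = e1 (twinMul p q) from rfl, e1.symm_apply_apply, e1.symm_apply_apply,
    e1.symm_apply_apply]
  exact toW_mul p q

end Ctx

end CfsgLib.Nonconn
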